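import Mathlib
import Groth.Agent.ModPairLib.Quot
import Groth.Agent.H23.FinCondSch
import Groth.Agent.Div21Lib.StalkIdeal
import Groth.Agent.SchTop.Closed

/-!
# Divisors supported on finitely many integral divisors
-/

set_option autoImplicit false
set_option linter.style.haveILetI false
set_option backward.isDefEq.respectTransparency.types false
universe u

open AlgebraicGeometry CategoryTheory TopologicalSpace ModPairLib

namespace Groth.Agent.CartierExt

variable {X : Scheme.{u}}

theorem radical_eq_of_isReduced (E : X.IdealSheafData) [IsReduced E.subscheme] : E.radical = E := by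
  refine le_antisymm (fun U a ha => ?_) (Scheme.IdealSheafData.le_radical _)
  rw [Scheme.IdealSheafData.radical_ideal] at ha
  obtain ⟨n, hn⟩ := ha
  rw [← E.ker_subschemeι_app U, RingHom.mem_ker] at hn ⊢
  rw [map_pow] at hn
  exact IsReduced.eq_zero _ ⟨n, hn⟩

theorem exists_le_component [IsNoetherian X] {D : X.IdealSheafData} (hD : BlowUp.IsEffCartierIdeal D)
    (hne : D ≠ ⊤) {r : ℕ} (Ds : Fin r → X.IdealSheafData) (hDs : ∀ i, BlowUp.IsEffCartierIdeal (Ds i))
    (hint : ∀ i, IsIntegral (Ds i).subscheme)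
    (hsub : (D.support : Set X) ⊆ ⋃ i, ((Ds i).support : Set X)) : ∃ i, D ≤ Ds i := by
  obtain ⟨x₀, hx₀⟩ : (D.support : Set X).Nonempty := by
    by_contra h
    exact hne ((Scheme.IdealSheafData.support_eq_bot_iff _).1 (Closeds.ext (Set.not_nonempty_iff_eq_empty.1 h)))
  obtain ⟨U, hx₀U, a, ha, hUa⟩ := hD x₀
  haveI : IsNoetherianRing Γ(X, U.1) := IsLocallyNoetherian.component_noetherian U
  have hmem : ∀ (p : PrimeSpectrum Γ(X, U.1)), U.2.fromSpec p ∈ D.support ↔ a ∈ p.asIdeal := fun p => by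
    have hpU : U.2.fromSpec p ∈ U.1 := by
      rw [← SetLike.mem_coe, ← U.2.range_fromSpec]; exact ⟨p, rfl⟩
    rw [Scheme.IdealSheafData.mem_support_iff_of_mem (U := U) hpU, hUa, Scheme.zeroLocus_span,
      Scheme.mem_zeroLocus_iff]
    have key : U.2.fromSpec p ∈ X.basicOpen a ↔ a ∉ p.asIdeal := by
      rw [← Scheme.Hom.mem_preimage, U.2.fromSpec_preimage_basicOpen]
      rfl
    exact ⟨fun h => by_contra fun hn => h a rfl (key.2 hn),
      fun h b hb hy => key.1 (Set.mem_singleton_iff.1 hb ▸ hy) h⟩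
  let P₀ := U.2.primeIdealOf ⟨x₀, hx₀U⟩
  have hP₀ : a ∈ P₀.asIdeal := (hmem P₀).1 (by
    show U.2.fromSpec (U.2.primeIdealOf ⟨x₀, hx₀U⟩) ∈ D.support
    rw [U.2.fromSpec_primeIdealOf]
    exact hx₀)
  obtain ⟨P, hP, -⟩ := Ideal.exists_minimalPrimes_le
    (show Ideal.span {a} ≤ P₀.asIdeal from (Ideal.span_singleton_le_iff_mem _).2 hP₀)
  let p : PrimeSpectrum Γ(X, U.1) := ⟨P, hP.1.1⟩
  let x := U.2.fromSpec p
  have hxD : x ∈ D.support := (hmem p).2 (hP.1.2 (Ideal.mem_span_singleton_self a))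
  have hxU : x ∈ U.1 := by rw [← SetLike.mem_coe, ← U.2.range_fromSpec]; exact ⟨p, rfl⟩
  have hpx : U.2.primeIdealOf ⟨x, hxU⟩ = p := U.2.fromSpec.isOpenEmbedding.injective
    (U.2.fromSpec_primeIdealOf ⟨x, hxU⟩)
  obtain ⟨i, hxi⟩ := Set.mem_iUnion.1 (hsub hxD)
  haveI := hint i
  let η := (Ds i).subschemeι (genericPoint ↥(Ds i).subscheme)
  have hsp : ∀ y ∈ (Ds i).support, η ⤳ y := by
    intro y hy
    have hy' : y ∈ Set.range (Ds i).subschemeι := by
      rw [Scheme.IdealSheafData.range_subschemeι]; exact hy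
    obtain ⟨z, rfl⟩ := hy'
    exact (genericPoint_specializes z).map (Ds i).subschemeι.continuous
  have hηU : η ∈ U.1 := (hsp x hxi).mem_open U.1.isOpen hxU
  let q := U.2.primeIdealOf ⟨η, hηU⟩
  have hqp : q.asIdeal ≤ P := by
    have h : q ⤳ p := U.2.fromSpec.isOpenEmbedding.isInducing.specializes_iff.1 (by
      show U.2.fromSpec (U.2.primeIdealOf ⟨η, hηU⟩) ⤳ x
      rw [U.2.fromSpec_primeIdealOf]
      exact hsp x hxi)
    exact (PrimeSpectrum.le_iff_specializes _ _).2 h
  have hqP : q.asIdeal = P := by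
    by_contra hne'
    have hlt : q.asIdeal < P := lt_of_le_of_ne hqp hne'
    have hPh : P.height ≤ 1 := by
      haveI : (Ideal.span {a}).IsPrincipal := ⟨a, rfl⟩
      exact Ideal.height_le_one_of_isPrincipal_of_mem_minimalPrimes _ _ hP
    haveI : P.IsPrime := hP.1.1
    have hfin : P.FiniteHeight := ⟨Or.inr (ne_top_of_le_ne_top (by simp) hPh)⟩
    haveI : q.asIdeal.FiniteHeight := Ideal.finiteHeight_of_le hqp hP.1.1.ne_top
    have h0 : q.asIdeal.height = 0 :=
      Order.lt_one_iff.1 (lt_of_lt_of_le (Ideal.height_strict_mono_of_isPrime hlt) hPh)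
    have hmin : q.asIdeal ∈ minimalPrimes Γ(X, U.1) := Ideal.height_eq_zero_iff.1 h0
    obtain ⟨g, hg, hgen⟩ := Div21Lib.exists_stI_generator (hDs i) η
    letI : Algebra Γ(X, U.1) (X.presheaf.stalk η) := (X.presheaf.germ U.1 η hηU).hom.toAlgebra
    haveI : IsLocalization.AtPrime (X.presheaf.stalk η) q.asIdeal := U.2.isLocalization_stalk ⟨η, hηU⟩
    have hηi : η ∈ (Ds i).support := by
      rw [← SetLike.mem_coe, ← Scheme.IdealSheafData.range_subschemeι]; exact ⟨_, rfl⟩
    have hle : (Ds i).ideal U ≤ q.asIdeal := by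
      intro b hb
      by_contra hbq
      rw [Scheme.IdealSheafData.mem_support_iff_of_mem (U := U) hηU, Scheme.mem_zeroLocus_iff] at hηi
      exact hηi b hb ((Scheme.mem_basicOpen _ _ _ hηU).2
        (IsLocalization.map_units (X.presheaf.stalk η) (⟨b, hbq⟩ : q.asIdeal.primeCompl)))
    have hnil : (q.asIdeal).map (algebraMap Γ(X, U.1) (X.presheaf.stalk η)) ≤ nilradical (X.presheaf.stalk η) := by
      rw [nilradical_eq_sInf]
      refine le_sInf fun Q hQ => Ideal.map_le_iff_le_comap.2 ?_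
      haveI : Q.IsPrime := hQ
      exact hmin.2 ⟨Ideal.IsPrime.comap _, bot_le⟩ (by
        intro b hb
        by_contra hbq
        exact hQ.ne_top (Ideal.eq_top_of_isUnit_mem _ hb
          (IsLocalization.map_units (X.presheaf.stalk η) (⟨b, hbq⟩ : q.asIdeal.primeCompl))))
    have hgn : g ∈ nilradical (X.presheaf.stalk η) := hnil ((Ideal.map_mono hle) (by
      show g ∈ ((Ds i).ideal U).map (X.presheaf.germ U.1 η hηU).hom
      rw [← Div21Lib.stI_eq _ U hηU, hgen]
      exact Ideal.mem_span_singleton_self g))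
    obtain ⟨k, hk⟩ := hgn
    exact nonZeroDivisors.ne_zero (pow_mem hg k) hk
  have hηD : η ∈ D.support := by
    have h := (hmem q).2 (by rw [hqP]; exact hP.1.2 (Ideal.mem_span_singleton_self a))
    change U.2.fromSpec (U.2.primeIdealOf ⟨η, hηU⟩) ∈ D.support at h
    rwa [U.2.fromSpec_primeIdealOf] at h
  refine ⟨i, ?_⟩
  rw [← radical_eq_of_isReduced (Ds i), ← Scheme.IdealSheafData.vanishingIdeal_support,
    ← Scheme.IdealSheafData.le_support_iff_le_vanishingIdeal]
  exact fun y hy => (hsp y hy).mem_closed D.support.isClosed hηD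

theorem exists_prod_eq [IsNoetherian X] {r : ℕ} (Ds : Fin r → X.IdealSheafData)
    (hDs : ∀ i, BlowUp.IsEffCartierIdeal (Ds i)) (hint : ∀ i, IsIntegral (Ds i).subscheme)
    (D : X.IdealSheafData) (hD : BlowUp.IsEffCartierIdeal D)
    (hsub : (D.support : Set X) ⊆ ⋃ i, ((Ds i).support : Set X)) :
    ∃ a : Fin r → ℕ, D = ∏ i, Ds i ^ a i := by
  classical
  haveI := H23.FinCondSch.wellFoundedGT (X := X)
  revert hD hsub
  induction D using WellFoundedGT.induction with
  | ind D ih =>
    intro hD hsub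
    by_cases htop : D = ⊤
    · exact ⟨0, by rw [htop, ← Scheme.IdealSheafData.one_eq_top]; exact (Finset.prod_eq_one fun j _ => pow_zero _).symm⟩
    obtain ⟨i, hle⟩ := exists_le_component hD htop Ds hDs hint hsub
    let D' := colon D (Ds i) (isLocPrincipal_of_isEffCartier (hDs i))
    have hmul : D' * Ds i = D := colon_mul (hDs i) hle
    have hD' : BlowUp.IsEffCartierIdeal D' := isEffCartier_of_mul (hDs i) (by rw [hmul]; exact hD)
    have hlt : D < D' := by
      have hle' : D ≤ D' := by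
        rw [← hmul]
        intro U
        rw [Scheme.IdealSheafData.ideal_mul, Pi.mul_apply]
        exact Ideal.mul_le_left
      refine lt_of_le_of_ne hle' fun he => ?_
      haveI := hint i
      have h1 : (⊤ : X.IdealSheafData) * D = Ds i * D := by
        rw [Scheme.IdealSheafData.top_mul, mul_comm]
        conv_lhs => rw [← hmul, ← he]
      have h2 : Ds i = ⊤ := (eq_of_mul_eq_mul hD h1).symm
      have h3 := Scheme.IdealSheafData.range_subschemeι (Ds i)
      rw [h2, Scheme.IdealSheafData.support_top] at h3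
      obtain ⟨z⟩ : Nonempty ↥(⊤ : X.IdealSheafData).subscheme := h2 ▸ inferInstance
      exact (h3.le ⟨z, rfl⟩ : _ ∈ (∅ : Set X))
    obtain ⟨b, hb⟩ := ih D' hlt hD' fun y hy => hsub (Scheme.IdealSheafData.support_antitone hlt.le hy)
    refine ⟨fun j => b j + if j = i then 1 else 0, ?_⟩
    have hp : ∏ j, Ds j ^ (if j = i then 1 else 0) = Ds i := by
      rw [Finset.prod_eq_single i (fun j _ hj => by rw [if_neg hj, pow_zero]) (by simp), if_pos rfl, pow_one]
    rw [← hmul, hb]
    simp only [pow_add, Finset.prod_mul_distrib]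
    rw [hp]

end Groth.Agent.CartierExt
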