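import Mathlib
import Groth.Agent.MeroX.EffCartier
import Groth.Agent.Div21Lib.StalkIdeal
import Groth.Agent.RegImmLib.RegStalk
import Groth.Agent.CDiv6.Factorial
import Groth.Agent.DimFormula.Stalk
import Groth.Agent.DivX.CodimOne

/-!
# Pure codimension one closed subschemes at factorial points
-/

set_option autoImplicit false
set_option linter.style.haveILetI false
set_option backward.isDefEq.respectTransparency.types false
universe u

open AlgebraicGeometry CategoryTheory TopologicalSpace IsLocalRing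

namespace Groth.Agent.CartierExt

/-- In a Noetherian factorial ring an ideal all of whose associated primes have height one is principal. -/
theorem exists_span_eq_of_height_one {R : Type u} [CommRing R] [IsDomain R] [IsNoetherianRing R]
    [UniqueFactorizationMonoid R] (I : Ideal R)
    (h : ∀ w : R, w ∉ I → ∃ q : Ideal R, q.IsPrime ∧ q.height = 1 ∧ (∃ w', ∀ r, r ∈ q ↔ r * w' ∈ I) ∧
      ∀ r, r * w ∈ I → r ∈ q) :
    ∃ g, g ≠ 0 ∧ I = Ideal.span {g} := by
  classical
  by_cases htop : I = ⊤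
  · exact ⟨1, one_ne_zero, by rw [htop, Ideal.span_singleton_one]⟩
  have hI : I ≠ ⊥ := by
    intro hI
    obtain ⟨q, hq, hht, ⟨w', hw'⟩, -⟩ := h 1 ((Ideal.ne_top_iff_one I).1 htop)
    have hw0 : w' ≠ 0 := fun h0 => hq.ne_top ((Ideal.eq_top_iff_one _).2 ((hw' 1).2 (by rw [h0, mul_zero]; exact zero_mem _)))
    have : q = ⊥ := (eq_bot_iff).2 fun r hr => by
      have h2 := (hw' r).1 hr
      rw [hI, Ideal.mem_bot] at h2
      exact (mul_eq_zero.1 h2).resolve_right hw0
    rw [this, Ideal.height_bot] at hht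
    exact zero_ne_one hht
  obtain ⟨j₀, hj₀, hj₀0⟩ := Submodule.exists_mem_ne_zero_of_ne_bot hI
  let T : Set R := {e | ∃ g, g * e = j₀ ∧ I ≤ Ideal.span {g}}
  have hT : T.Nonempty := ⟨j₀, 1, one_mul _, by simp⟩
  obtain ⟨e, ⟨g, hge, hJg⟩, hmin⟩ := (wellFounded_dvdNotUnit (α := R)).has_min T hT
  have hg0 : g ≠ 0 := fun h => hj₀0 (by rw [← hge, h, zero_mul])
  have he0 : e ≠ 0 := fun h => hj₀0 (by rw [← hge, h, mul_zero])
  refine ⟨g, hg0, le_antisymm hJg ((Ideal.span_singleton_le_iff_mem _).2 ?_)⟩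
  by_contra hgI
  obtain ⟨q, hq, hht, -, hle⟩ := h g hgI
  haveI := hq
  obtain ⟨p, hp, rfl⟩ := DivX.exists_prime_span_of_height_one q hht
  have hall : I ≤ Ideal.span {g * p} := fun j hj => by
    obtain ⟨i, rfl⟩ := Ideal.mem_span_singleton'.1 (hJg hj)
    obtain ⟨k, rfl⟩ := Ideal.mem_span_singleton'.1 (hle i hj)
    exact Ideal.mem_span_singleton'.2 ⟨k, by ring⟩
  obtain ⟨e', he'⟩ := Ideal.mem_span_singleton'.1 (hall hj₀)
  have hee : e = e' * p := mul_left_cancel₀ hg0 (by rw [hge, ← he']; ring)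
  exact hmin e' ⟨g * p, by rw [← he']; ring, hall⟩
    ⟨fun h => he0 (by rw [hee, h, zero_mul]), p, hp.not_unit, hee⟩

/-- An associated prime of a local ring gives an associated maximal ideal at the generization. -/
theorem isAssociatedPrime_generize {Z : Scheme.{u}} {z' z : Z} (h : z' ⤳ z) (w : Z.presheaf.stalk z)
    (hw : ∀ r, r ∈ (CDiv6.primeOf h).asIdeal ↔ r * w = 0) :
    IsAssociatedPrime (maximalIdeal ↑(Z.presheaf.stalk z')) ↑(Z.presheaf.stalk z') := by
  obtain ⟨V, hV, hzV, -⟩ := exists_isAffineOpen_mem_and_subset (x := z) (U := ⊤) trivial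
  have hz'V : z' ∈ V := h.mem_open V.isOpen hzV
  let P' := (hV.primeIdealOf ⟨z', hz'V⟩).asIdeal
  letI : Algebra Γ(Z, V) (Z.presheaf.stalk z') := (Z.presheaf.germ V z' hz'V).hom.toAlgebra
  haveI : IsLocalization.AtPrime (Z.presheaf.stalk z') P' := hV.isLocalization_stalk ⟨z', hz'V⟩
  letI : Algebra Γ(Z, V) (Z.presheaf.stalk z) := (Z.presheaf.germ V z hzV).hom.toAlgebra
  haveI : IsLocalization.AtPrime (Z.presheaf.stalk z) (hV.primeIdealOf ⟨z, hzV⟩).asIdeal :=
    hV.isLocalization_stalk ⟨z, hzV⟩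
  let σ := (Z.presheaf.stalkSpecializes h).hom
  have hσ : ∀ a, σ (algebraMap Γ(Z, V) _ a) = algebraMap Γ(Z, V) (Z.presheaf.stalk z') a := fun a => by
    show (Z.presheaf.germ V z hzV ≫ Z.presheaf.stalkSpecializes h) a = _
    rw [TopCat.Presheaf.germ_stalkSpecializes]
    rfl
  have hne : σ w ≠ 0 := by
    intro h0
    obtain ⟨a, s, rfl⟩ := IsLocalization.exists_mk'_eq (hV.primeIdealOf ⟨z, hzV⟩).asIdeal.primeCompl w
    have h1 : algebraMap Γ(Z, V) (Z.presheaf.stalk z') a = 0 := by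
      rw [← hσ, ← IsLocalization.mk'_spec (Z.presheaf.stalk z) a s, map_mul, h0, zero_mul]
    obtain ⟨⟨t, ht⟩, hta⟩ := (IsLocalization.map_eq_zero_iff P'.primeCompl _ a).1 h1
    have h2 : algebraMap Γ(Z, V) (Z.presheaf.stalk z) t ∈ (CDiv6.primeOf h).asIdeal := by
      rw [hw, IsLocalization.mul_mk'_eq_mk'_of_mul, show t * a = 0 from hta, IsLocalization.mk'_zero]
    rw [CDiv6.mem_primeOf] at h2
    exact h2 ((hσ t).symm ▸ IsLocalization.map_units (Z.presheaf.stalk z') (⟨t, ht⟩ : P'.primeCompl))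
  have hcolon : (⊥ : Submodule (Z.presheaf.stalk z') (Z.presheaf.stalk z')).colon {σ w} =
      maximalIdeal _ := by
    refine le_antisymm (IsLocalRing.le_maximalIdeal fun htop => hne ?_) fun r hr => ?_
    · have h1 := (Ideal.eq_top_iff_one _).1 htop
      rwa [Submodule.mem_colon_singleton, one_smul, Submodule.mem_bot] at h1
    · rw [Submodule.mem_colon_singleton, Submodule.mem_bot, smul_eq_mul]
      obtain ⟨b, t, rfl⟩ := IsLocalization.exists_mk'_eq P'.primeCompl r
      have hb : algebraMap Γ(Z, V) (Z.presheaf.stalk z) b * w = 0 := by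
        rw [← hw, CDiv6.mem_primeOf]
        intro hu
        refine hr ?_
        rw [IsLocalization.mk'_eq_mul_mk'_one]
        refine IsUnit.mul ((hσ b) ▸ hu) ?_
        exact IsUnit.of_mul_eq_one (a := IsLocalization.mk' (Z.presheaf.stalk z') 1 t)
          (algebraMap Γ(Z, V) _ t.1) ((IsLocalization.mk'_spec _ _ _).trans (map_one _))
      rw [IsLocalization.mk'_eq_mul_mk'_one, mul_right_comm, ← hσ, ← map_mul, hb, map_zero, zero_mul]
  exact ⟨inferInstance, σ w, by rw [hcolon, (IsLocalRing.maximalIdeal.isMaximal _).isPrime.radical]⟩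

/-- A closed subscheme without embedded points, of codimension one at factorial points, is Cartier. -/
theorem isEffCartier_of_pure (X : Scheme.{u}) [IsLocallyNoetherian X] (𝓘 : X.IdealSheafData)
    (h1 : ∀ z : ↥𝓘.subscheme, IsAssociatedPrime (maximalIdeal ↑(𝓘.subscheme.presheaf.stalk z))
      ↑(𝓘.subscheme.presheaf.stalk z) → ∀ z' : ↥𝓘.subscheme, z' ⤳ z → z' = z)
    (h2 : ∀ z : ↥𝓘.subscheme, (∀ z' : ↥𝓘.subscheme, z' ⤳ z → z' = z) →
      ringKrullDim (X.presheaf.stalk (𝓘.subschemeι z)) = 1)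
    (h3 : ∀ x : ↥X, x ∈ 𝓘.support → IsDomain (X.presheaf.stalk x) ∧ UniqueFactorizationMonoid (X.presheaf.stalk x)) :
    BlowUp.IsEffCartierIdeal 𝓘 := by
  refine MeroX.isEffCartier_of_stalk 𝓘 fun x hx V hxV => ?_
  obtain ⟨z, rfl⟩ : x ∈ Set.range 𝓘.subschemeι := by
    rw [Scheme.IdealSheafData.range_subschemeι]; exact hx
  obtain ⟨_, _⟩ := h3 _ hx
  let π := (𝓘.subschemeι.stalkMap z).hom
  have hπ : Function.Surjective π := 𝓘.subschemeι.stalkMap_surjective z
  have hkerπ : RingHom.ker π = (𝓘.ideal V).map (X.presheaf.germ V.1 (𝓘.subschemeι z) hxV).hom := by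
    rw [RegImmLib.ker_stalkMap_eq_map 𝓘.subschemeι V.2 z hxV]
    exact congrArg _ (𝓘.ker_subschemeι_app V)
  haveI : IsLocallyNoetherian 𝓘.subscheme := LocallyOfFiniteType.isLocallyNoetherian 𝓘.subschemeι
  obtain ⟨g, hg0, hg⟩ := exists_span_eq_of_height_one (RingHom.ker π) fun w hw => by
    obtain ⟨q', hq', hle⟩ := exists_le_isAssociatedPrime_of_isNoetherianRing
      (𝓘.subscheme.presheaf.stalk z) (π w) (fun h0 => hw (RingHom.mem_ker.2 h0))
    obtain ⟨hq'p, w₁, hw₁⟩ := isAssociatedPrime_iff.1 hq'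
    obtain ⟨w', rfl⟩ := hπ w₁
    let Q' : PrimeSpectrum (𝓘.subscheme.presheaf.stalk z) := ⟨q', hq'p⟩
    let z' := 𝓘.subscheme.fromSpecStalk z Q'
    have hsp : z' ⤳ z := CDiv6.fromSpecStalk_specializes Q'
    have hprime : CDiv6.primeOf hsp = Q' := CDiv6.primeOf_fromSpecStalk Q'
    have hmax : ∀ z'' : ↥𝓘.subscheme, z'' ⤳ z' → z'' = z' := by
      refine h1 z' (isAssociatedPrime_generize hsp (π w') fun r => ?_)
      rw [hprime]
      show r ∈ q' ↔ _
      rw [hw₁, Submodule.mem_colon_singleton, Submodule.mem_bot, smul_eq_mul]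
    have hdim := h2 z' hmax
    let q : PrimeSpectrum (X.presheaf.stalk (𝓘.subschemeι z)) := PrimeSpectrum.comap π Q'
    have hqy : X.fromSpecStalk (𝓘.subschemeι z) q = 𝓘.subschemeι z' := DimFormula.fromSpecStalk_comm _ z Q'
    have hht : q.asIdeal.height = 1 := by
      have e1 : CDiv6.primeOf (CDiv6.fromSpecStalk_specializes q) = q := CDiv6.primeOf_fromSpecStalk q
      have e2 := CDiv6.height_primeOf (CDiv6.fromSpecStalk_specializes q)
      rw [e1, hqy] at e2
      have e3 := CDiv6.height_primeOf (specializes_refl (𝓘.subschemeι z'))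
      have e4 : (CDiv6.primeOf (specializes_refl (𝓘.subschemeι z'))).asIdeal = maximalIdeal _ := by
        ext r
        rw [CDiv6.mem_primeOf, IsLocalRing.mem_maximalIdeal, mem_nonunits_iff,
          TopCat.Presheaf.stalkSpecializes_refl]
        rfl
      rw [e4] at e3
      rw [e2, ← e3]
      have e5 := IsLocalRing.maximalIdeal_height_eq_ringKrullDim (R := X.presheaf.stalk (𝓘.subschemeι z'))
      rw [hdim] at e5
      exact_mod_cast e5
    refine ⟨q.asIdeal, q.2, hht, ⟨w', fun r => ?_⟩, fun r hr => ?_⟩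
    · show π r ∈ q' ↔ _
      rw [hw₁, Submodule.mem_colon_singleton, Submodule.mem_bot, smul_eq_mul, RingHom.mem_ker, map_mul]
    · show π r ∈ q'
      refine hle ?_
      rw [Submodule.mem_colon_singleton, Submodule.mem_bot, smul_eq_mul, ← map_mul]
      exact RingHom.mem_ker.1 hr
  exact ⟨g, mem_nonZeroDivisors_of_ne_zero hg0, hkerπ.symm.trans hg⟩

end Groth.Agent.CartierExt
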