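import Mathlib
import Groth.Agent.MeroX.EffCartier
import Groth.Agent.MorLib.IdealFG
import Groth.Agent.Div21Lib.StalkIdeal
import Groth.Agent.QCoh.Support

/-!
# Extending effective Cartier divisors across factorial points
-/

set_option autoImplicit false
set_option linter.style.haveILetI false
set_option backward.isDefEq.respectTransparency.types false
universe u

open AlgebraicGeometry CategoryTheory TopologicalSpace Opposite

namespace Groth.Agent.CartierExt

theorem map_equiv_injective {R S : Type u} [CommRing R] [CommRing S] (σ : R ≃+* S) :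
    Function.Injective (Ideal.map σ : Ideal R → Ideal S) := fun I J h => by
  rw [← Ideal.comap_map_of_bijective σ σ.bijective (I := I), h, Ideal.comap_map_of_bijective σ σ.bijective]

/-- An ideal of a Noetherian factorial ring, saturated with respect to an ideal `b` and principal off
`V(b)`, is principal. -/
theorem exists_span_eq_of_saturated {R : Type u} [CommRing R] [IsDomain R] [IsNoetherianRing R]
    [UniqueFactorizationMonoid R] (J b : Ideal R)
    (hsat : ∀ g : R, (∃ n : ℕ, ∀ e ∈ b ^ n, e * g ∈ J) → g ∈ J)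
    (hloc : ∀ q : Ideal R, q.IsPrime → ¬ b ≤ q → ∃ c ∈ J, c ≠ 0 ∧ ∀ j ∈ J, ∃ u ∉ q, u * j ∈ Ideal.span {c}) :
    ∃ g, g ≠ 0 ∧ J = Ideal.span {g} := by
  classical
  by_cases hJ : J = ⊥
  · exfalso
    have hb : ∀ e ∈ b, e = 0 := by
      intro e he
      by_contra hne
      obtain ⟨c, hc, hc0, -⟩ := hloc ⊥ Ideal.isPrime_bot fun h => hne (h he)
      rw [hJ] at hc
      exact hc0 hc
    have h1 : (1 : R) ∈ J := hsat 1 ⟨1, fun e he => by
      rw [pow_one] at he
      rw [hb e he, zero_mul]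
      exact zero_mem _⟩
    rw [hJ, Ideal.mem_bot] at h1
    exact one_ne_zero h1
  obtain ⟨j₀, hj₀, hj₀0⟩ := Submodule.exists_mem_ne_zero_of_ne_bot hJ
  let T : Set R := {e | ∃ g, g * e = j₀ ∧ J ≤ Ideal.span {g}}
  have hT : T.Nonempty := ⟨j₀, 1, one_mul _, by simp⟩
  obtain ⟨e, ⟨g, hge, hJg⟩, hmin⟩ := (wellFounded_dvdNotUnit (α := R)).has_min T hT
  have hg0 : g ≠ 0 := fun h => hj₀0 (by rw [← hge, h, zero_mul])
  have he0 : e ≠ 0 := fun h => hj₀0 (by rw [← hge, h, mul_zero])
  have hnop : ∀ p : R, Prime p → ¬ J ≤ Ideal.span {g * p} := by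
    intro p hp hle
    obtain ⟨e', he'⟩ := Ideal.mem_span_singleton'.1 (hle hj₀)
    have hee : e = e' * p := mul_left_cancel₀ hg0 (by rw [hge, ← he']; ring)
    exact hmin e' ⟨g * p, by rw [← he']; ring, hle⟩
      ⟨fun h => he0 (by rw [hee, h, zero_mul]), p, hp.not_unit, hee⟩
  let C : Ideal R := Submodule.comap (LinearMap.mulRight R g) J
  have hC : ∀ t, t ∈ C ↔ t * g ∈ J := fun t => Iff.rfl
  have hCq : ∀ q : Ideal R, q.IsPrime → ¬ b ≤ q → ¬ C ≤ q := by
    intro q hq hbq hCle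
    obtain ⟨c, hcJ, hc0, hc⟩ := hloc q hq hbq
    obtain ⟨c', rfl⟩ := Ideal.mem_span_singleton'.1 (hJg hcJ)
    have hc'q : c' ∈ q := hCle ((hC c').2 hcJ)
    have hc'0 : c' ≠ 0 := fun h => hc0 (by rw [h, zero_mul])
    obtain ⟨f, hf, hfa⟩ := UniqueFactorizationMonoid.exists_prime_factors c' hc'0
    have hfq : f.prod ∈ q := Ideal.mem_of_dvd _ hfa.symm.dvd hc'q
    obtain ⟨p, hpf, hpq⟩ := (hq.multiset_prod_mem_iff_exists_mem f).1 hfq
    have hpc : p ∣ c' := (Multiset.dvd_prod hpf).trans hfa.dvd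
    refine hnop p (hf p hpf) fun j hj => ?_
    obtain ⟨i, rfl⟩ := Ideal.mem_span_singleton'.1 (hJg hj)
    obtain ⟨u, hu, huj⟩ := hc _ hj
    obtain ⟨d, hd⟩ := Ideal.mem_span_singleton'.1 huj
    have hui : u * i = d * c' := mul_right_cancel₀ hg0 (by linear_combination -hd)
    have hpi : p ∣ i := ((hf p hpf).dvd_or_dvd (hui ▸ hpc.mul_left d : p ∣ u * i)).resolve_left
      fun hpu => hu (Ideal.mem_of_dvd _ hpu hpq)
    obtain ⟨k, rfl⟩ := hpi
    exact Ideal.mem_span_singleton'.2 ⟨k, by ring⟩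
  have hrad : b ≤ C.radical := by
    rw [Ideal.radical_eq_sInf]
    refine le_sInf fun q hq => ?_
    by_contra hbq
    exact hCq q hq.2 hbq hq.1
  obtain ⟨n, hn⟩ := Ideal.exists_pow_le_of_le_radical_of_fg hrad (IsNoetherian.noetherian b)
  have hgJ : g ∈ J := hsat g ⟨n, fun e he => (hC e).1 (hn he)⟩
  exact ⟨g, hg0, le_antisymm hJg ((Ideal.span_singleton_le_iff_mem _).2 hgJ)⟩

variable {X : Scheme.{u}}

/-- The scheme-theoretic closure of a divisor on an open subscheme is principal at factorial points. -/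
theorem exists_gen_stI_map [IsLocallyNoetherian X] (U : X.Opens) [QuasiCompact U.ι]
    (D : (U : Scheme.{u}).IdealSheafData) (hD : BlowUp.IsEffCartierIdeal D)
    (x : X) [IsDomain (X.presheaf.stalk x)] [UniqueFactorizationMonoid (X.presheaf.stalk x)] :
    ∃ g, g ∈ nonZeroDivisors (X.presheaf.stalk x) ∧ Div21Lib.stI (D.map U.ι) x = Ideal.span {g} := by
  classical
  obtain ⟨W, hW, hxW, -⟩ := exists_isAffineOpen_mem_and_subset (x := x) (U := ⊤) trivial
  haveI : IsNoetherianRing Γ(X, W) := IsLocallyNoetherian.component_noetherian ⟨W, hW⟩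
  let A := Γ(X, W)
  let R := X.presheaf.stalk x
  let P := (hW.primeIdealOf ⟨x, hxW⟩).asIdeal
  letI : Algebra A R := (X.presheaf.germ W x hxW).hom.toAlgebra
  haveI : IsLocalization.AtPrime R P := hW.isLocalization_stalk ⟨x, hxW⟩
  haveI : IsNoetherianRing R := IsLocalization.isNoetherianRing P.primeCompl R inferInstance
  let JA : Ideal A := (D.map U.ι).ideal ⟨W, hW⟩
  let S : Set (PrimeSpectrum A) := hW.fromSpec ⁻¹' (U : Set X)ᶜ
  have hS : IsClosed S := U.isOpen.isClosed_compl.preimage hW.fromSpec.continuous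
  let bA : Ideal A := PrimeSpectrum.vanishingIdeal S
  have hbA : ∀ p : PrimeSpectrum A, bA ≤ p.asIdeal → hW.fromSpec p ∉ U := by
    intro p hp
    have h1 : p ∈ PrimeSpectrum.zeroLocus (bA : Set A) := hp
    rw [PrimeSpectrum.zeroLocus_vanishingIdeal_eq_closure, hS.closure_eq] at h1
    exact h1
  -- saturation on sections
  have hsatA : ∀ a : A, (∃ n : ℕ, ∀ e ∈ bA ^ n, e * a ∈ JA) → a ∈ JA := by
    rintro a ⟨n, hn⟩
    let f := D.subschemeι ≫ U.ι
    have hker : JA = RingHom.ker (f.app W).hom := Scheme.Hom.ker_apply f ⟨W, hW⟩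
    rw [hker, RingHom.mem_ker]
    have hcov : ∀ z : D.subscheme, z ∈ f ⁻¹ᵁ W → ∃ h ∈ bA, z ∈ D.subscheme.basicOpen (f.app W h) := by
      intro z hz
      have hfU : f z ∈ U := (D.subschemeι z).2
      have hz' : (f z) ∈ W := hz
      have hnot : ¬ bA ≤ (hW.primeIdealOf ⟨f z, hz'⟩).asIdeal := fun h => by
        have h2 := hbA _ h
        rw [hW.fromSpec_primeIdealOf] at h2
        exact h2 hfU
      obtain ⟨h, hh, hhq⟩ := SetLike.not_le_iff_exists.1 hnot
      refine ⟨h, hh, ?_⟩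
      rw [← Scheme.preimage_basicOpen]
      exact (QCoh.mem_basicOpen_iff_notMem hW hz' h).2 hhq
    refine D.subscheme.sheaf.eq_of_locally_eq' (fun h : bA => D.subscheme.basicOpen (f.app W h.1)) _
      (fun h => homOfLE (D.subscheme.basicOpen_le _)) (fun z hz => ?_) (f.app W a) 0 fun h => ?_
    · obtain ⟨h, hh, hzh⟩ := hcov z hz
      exact Opens.mem_iSup.2 ⟨⟨h, hh⟩, hzh⟩
    · have h1 := hn _ (Ideal.pow_mem_pow h.2 n)
      rw [hker, RingHom.mem_ker, map_mul, map_pow] at h1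
      have h2 := congrArg (D.subscheme.presheaf.map (homOfLE (D.subscheme.basicOpen_le (f.app W h.1))).op) h1
      rw [map_mul, map_pow, map_zero] at h2
      have hu := (RingedSpace.isUnit_res_basicOpen D.subscheme.toRingedSpace (f.app W h.1)).pow n
      rw [map_zero]
      exact hu.mul_right_eq_zero.1 h2
  let J : Ideal R := JA.map (algebraMap A R)
  let b : Ideal R := bA.map (algebraMap A R)
  have hsat : ∀ g : R, (∃ n : ℕ, ∀ e ∈ b ^ n, e * g ∈ J) → g ∈ J := by
    rintro g ⟨n, hn⟩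
    obtain ⟨a, s, rfl⟩ := IsLocalization.exists_mk'_eq P.primeCompl g
    obtain ⟨G, hG⟩ := IsNoetherian.noetherian (bA ^ n)
    have hex : ∀ e ∈ bA ^ n, ∃ t ∉ P, t * (e * a) ∈ JA := by
      intro e he
      have h1 : algebraMap A R e * IsLocalization.mk' R a s ∈ J := hn _ (by
        rw [← Ideal.map_pow]; exact Ideal.mem_map_of_mem _ he)
      rw [IsLocalization.mul_mk'_eq_mk'_of_mul, IsLocalization.mk'_mem_map_algebraMap_iff] at h1
      exact h1
    choose! t ht1 ht2 using hex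
    have hGb : ∀ e ∈ G, e ∈ bA ^ n := fun e he => hG ▸ Submodule.subset_span he
    refine (IsLocalization.mk'_mem_map_algebraMap_iff P.primeCompl R JA a s).2
      ⟨∏ e ∈ G, t e, prod_mem fun e he => ht1 e (hGb e he), hsatA _ ⟨n, fun e he => ?_⟩⟩
    rw [← hG] at he
    induction he using Submodule.span_induction with
    | mem e he =>
      obtain ⟨k, hk⟩ := Finset.dvd_prod_of_mem t he
      rw [hk, show e * (t e * k * a) = k * (t e * (e * a)) by ring]
      exact Ideal.mul_mem_left _ _ (ht2 e (hGb e he))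
    | zero => rw [zero_mul]; exact zero_mem _
    | add u v _ _ hu hv => rw [add_mul]; exact add_mem hu hv
    | smul c u _ hu => rw [smul_eq_mul, mul_assoc]; exact Ideal.mul_mem_left _ _ hu
  have hloc : ∀ q : Ideal R, q.IsPrime → ¬ b ≤ q → ∃ c ∈ J, c ≠ 0 ∧ ∀ j ∈ J, ∃ u ∉ q, u * j ∈ Ideal.span {c} := by
    intro q hq hbq
    let p : PrimeSpectrum A := ⟨q.comap (algebraMap A R), Ideal.IsPrime.comap _⟩
    have hpP : p.asIdeal ≤ P := fun a ha => by
      by_contra h
      exact hq.ne_top (Ideal.eq_top_of_isUnit_mem _ ha (IsLocalization.map_units R (⟨a, h⟩ : P.primeCompl)))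
    have hyW : hW.fromSpec p ∈ W := by
      have : hW.fromSpec p ∈ Set.range hW.fromSpec := ⟨p, rfl⟩
      rwa [hW.range_fromSpec] at this
    have hyU : hW.fromSpec p ∈ U := by
      by_contra h
      refine hbq (Ideal.map_le_iff_le_comap.2 fun e he => ?_)
      exact (PrimeSpectrum.mem_vanishingIdeal S e).1 he p h
    let z : (U : Scheme.{u}) := ⟨hW.fromSpec p, hyU⟩
    let y : X := U.ι z
    have hy : y ∈ W := hyW
    obtain ⟨g₀, hg₀, hgen₀⟩ := Div21Lib.exists_stI_generator hD z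
    have hres : Div21Lib.stI D z = (Div21Lib.stI (D.map U.ι) y).map (U.ι.stalkMap z).hom := by
      rw [← Div21Lib.stI_comap, MorLib.IdealFG.comap_map_self U.ι D]
    letI : Algebra A (X.presheaf.stalk y) := (X.presheaf.germ W y hy).hom.toAlgebra
    haveI : IsLocalization.AtPrime (X.presheaf.stalk y) p.asIdeal := hW.isLocalization_stalk' p hyW
    let σ : X.presheaf.stalk y ≃+* (U : Scheme.{u}).presheaf.stalk z :=
      (asIso (U.ι.stalkMap z)).commRingCatIsoToRingEquiv
    have hgen : Div21Lib.stI (D.map U.ι) y = Ideal.span {σ.symm g₀} := by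
      refine map_equiv_injective σ ?_
      rw [Ideal.map_span, Set.image_singleton, RingEquiv.apply_symm_apply, ← hgen₀, hres]
      rfl
    have hst : Div21Lib.stI (D.map U.ι) y = JA.map (algebraMap A (X.presheaf.stalk y)) :=
      Div21Lib.stI_eq _ ⟨W, hW⟩ hy
    rw [hst] at hgen
    have hg₀' : σ.symm g₀ ∈ nonZeroDivisors (X.presheaf.stalk y) :=
      MulEquivClass.map_nonZeroDivisors σ.symm ▸ ⟨g₀, hg₀, rfl⟩
    obtain ⟨⟨⟨a, ha⟩, s⟩, hs⟩ := (IsLocalization.mem_map_algebraMap_iff p.asIdeal.primeCompl _).1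
      (show σ.symm g₀ ∈ JA.map (algebraMap A (X.presheaf.stalk y)) by rw [hgen]; exact Ideal.mem_span_singleton_self _)
    refine ⟨algebraMap A R a, Ideal.mem_map_of_mem _ ha, fun h0 => ?_, fun j hj => ?_⟩
    · obtain ⟨⟨t, ht⟩, hta⟩ := (IsLocalization.map_eq_zero_iff P.primeCompl R a).1 h0
      have h1 : algebraMap A (X.presheaf.stalk y) a = 0 :=
        (IsLocalization.map_eq_zero_iff p.asIdeal.primeCompl _ a).2 ⟨⟨t, fun h => ht (hpP h)⟩, hta⟩
      rw [← hs] at h1
      exact nonZeroDivisors.ne_zero hg₀' ((IsLocalization.map_units _ s).mul_left_eq_zero.1 h1)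
    · obtain ⟨⟨⟨i, hi⟩, v⟩, hv⟩ := (IsLocalization.mem_map_algebraMap_iff P.primeCompl R).1 hj
      obtain ⟨d, hd⟩ := Ideal.mem_span_singleton'.1
        (show algebraMap A (X.presheaf.stalk y) i ∈ Ideal.span {σ.symm g₀} from hgen ▸ Ideal.mem_map_of_mem _ hi)
      obtain ⟨d', w, rfl⟩ := IsLocalization.exists_mk'_eq p.asIdeal.primeCompl d
      have heq : algebraMap A (X.presheaf.stalk y) (i * w.1 * s.1) = algebraMap A (X.presheaf.stalk y) (d' * a) := by
        rw [map_mul, map_mul, map_mul, ← hs, ← hd, ← IsLocalization.mk'_spec (X.presheaf.stalk y) d' w]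
        ring
      obtain ⟨m, hm⟩ := (IsLocalization.eq_iff_exists p.asIdeal.primeCompl _).1 heq
      refine ⟨algebraMap A R (m.1 * w.1 * s.1 * v.1), fun h => ?_, ?_⟩
      · have h' : m.1 * w.1 * s.1 * v.1 ∈ p.asIdeal := h
        have hvp : v.1 ∉ p.asIdeal := fun hvp => v.2 (hpP hvp)
        exact (p.isPrime.mem_or_mem h').elim (fun h1 => (p.isPrime.mem_or_mem h1).elim
          (fun h2 => (p.isPrime.mem_or_mem h2).elim m.2 w.2) s.2) hvp
      · refine Ideal.mem_span_singleton'.2 ⟨algebraMap A R (m.1 * d'), ?_⟩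
        have hcast := congrArg (algebraMap A R) hm
        simp only [map_mul] at hcast ⊢
        rw [← hv] at hcast
        linear_combination -hcast
  obtain ⟨g, hg0, hg⟩ := exists_span_eq_of_saturated J b hsat hloc
  refine ⟨g, mem_nonZeroDivisors_of_ne_zero hg0, ?_⟩
  rw [Div21Lib.stI_eq _ ⟨W, hW⟩ hxW]
  exact hg

/-- Extension of an effective Cartier divisor. -/
theorem exists_extension [IsLocallyNoetherian X] (U : X.Opens) [QuasiCompact U.ι]
    (D : (U : Scheme.{u}).IdealSheafData) (hD : BlowUp.IsEffCartierIdeal D)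
    (hufd : ∀ x : X, x ∉ U → IsDomain (X.presheaf.stalk x) ∧ UniqueFactorizationMonoid (X.presheaf.stalk x)) :
    BlowUp.IsEffCartierIdeal (D.map U.ι) ∧ (D.map U.ι).comap U.ι = D := by
  refine ⟨MeroX.isEffCartier_of_stalk _ fun x _ V hxV => ?_, MorLib.IdealFG.comap_map_self U.ι D⟩
  have hst : ∀ g, Div21Lib.stI (D.map U.ι) x = Ideal.span {g} →
      ((D.map U.ι).ideal V).map (X.presheaf.germ V x hxV).hom = Ideal.span {g} := fun g h => by
    rw [← h, Div21Lib.stI_eq _ V hxV]
  by_cases hxU : x ∈ U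
  · let z : (U : Scheme.{u}) := ⟨x, hxU⟩
    have key : ∀ (y : X), U.ι z = y → ∃ g, g ∈ nonZeroDivisors (X.presheaf.stalk y) ∧
        Div21Lib.stI (D.map U.ι) y = Ideal.span {g} := by
      rintro y rfl
      obtain ⟨g₀, hg₀, hgen₀⟩ := Div21Lib.exists_stI_generator hD z
      let σ : X.presheaf.stalk (U.ι z) ≃+* (U : Scheme.{u}).presheaf.stalk z :=
        (asIso (U.ι.stalkMap z)).commRingCatIsoToRingEquiv
      refine ⟨σ.symm g₀, MulEquivClass.map_nonZeroDivisors σ.symm ▸ ⟨g₀, hg₀, rfl⟩, ?_⟩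
      refine map_equiv_injective σ ?_
      rw [Ideal.map_span, Set.image_singleton, RingEquiv.apply_symm_apply, ← hgen₀,
        show Div21Lib.stI D z = (Div21Lib.stI (D.map U.ι) (U.ι z)).map (U.ι.stalkMap z).hom by
          rw [← Div21Lib.stI_comap, MorLib.IdealFG.comap_map_self U.ι D]]
      rfl
    obtain ⟨g, hg, h⟩ := key x rfl
    exact ⟨g, hg, hst g h⟩
  · obtain ⟨_, _⟩ := hufd x hxU
    obtain ⟨g, hg, h⟩ := exists_gen_stI_map U D hD x
    exact ⟨g, hg, hst g h⟩

end Groth.Agent.CartierExt
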